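import Cfsg.Agent.Lib.Fischer.Tilde
import Cfsg.Agent.Lib.Unitary.Simple
import Cfsg.Agent.Lib.Unitary.GraphU2
import Cfsg.Agent.Lib.Orth.CharTwo

/-! Outer involutions of `U₆(2)` (helper24). -/

set_option autoImplicit false

namespace Cfsg.Lib.F223

open Subgroup Matrix Cfsg.Lib.Unitary Cfsg.Lib.Linear Cfsg.Lib.Orth Cfsg.Lib.Fischer Module

/-- the group -/
abbrev UU := PSU 6 F4 2

/-- the transvections -/
abbrev XU : Set UU := QuotientGroup.mk '' suSet 6

/-- automorphisms centralising a symplectic group -/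
structure Ty1 (β : MulAut UU) : Prop where
  t : ∃ T : Subgroup UU, Nat.card T = 81 ∧ ∀ t ∈ T, β t = t
  pf : ∀ B : Subgroup UU, (∀ u v, β u = u → β v = v → u * v * u⁻¹ * v⁻¹ ∈ B) → ∀ u, β u = u → u ∈ B

/-- the other class -/
structure Ty2 (β : MulAut UU) (c : UU) : Prop where
  mem : c ∈ XU
  fx : β c = c
  cm : ∀ u, β u = u → u * c = c * u
  t1 : Ty1 (β * MulAut.conj c)
  z : ∀ u, (∀ x ∈ XU, β x = x → u * x = x * u) → u = 1 ∨ u = c

variable {α β : MulAut UU} {c : UU}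

theorem cjfx {u : UU} : (α * β * α⁻¹) (α u) = α u ↔ β u = u := by simp

theorem Ty1.cj (h : Ty1 β) (α : MulAut UU) : Ty1 (α * β * α⁻¹) := by
  obtain ⟨T, c, f⟩ := h.t
  refine ⟨⟨T.map α.toMonoidHom, (card_map_of_injective α.injective).trans c, ?_⟩, fun B k => α.surjective.forall.2 fun u e =>
    h.pf (B.comap α.toMonoidHom) (fun u v p q => ?_) u (cjfx.1 e)⟩
  · rintro _ ⟨t, m, rfl⟩
    exact cjfx.2 (f t m)
  · simpa using k _ _ (cjfx.2 p) (cjfx.2 q)

theorem Ty2.cj (h : Ty2 β c) (m : ∀ x, α x ∈ XU ↔ x ∈ XU) : Ty2 (α * β * α⁻¹) (α c) := by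
  refine ⟨(m c).2 h.mem, cjfx.2 h.fx, α.surjective.forall.2 fun u e => by simpa using congrArg α (h.cm u (cjfx.1 e)), ?_,
    α.surjective.forall.2 fun u k => (h.z u fun x o e => α.injective (by simpa using k _ ((m x).2 o) (cjfx.2 e))).imp
      (fun e => by rw [e, map_one]) (congrArg α)⟩
  convert h.t1.cj α using 1
  ext x
  simp

theorem h4 : Fintype.card F4 = 2 ^ 2 := card_F4

instance simpleUU : IsSimpleGroup UU := isSimpleGroup_PSU card_F4 (by omega) (by omega)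

theorem uu_card : Nat.card UU = 9196830720 := by
  have h2 := card_PSU (q := 2) (n := 6) card_F4 (by omega)
  rw [show guOrder 2 6 = 82771476480 by decide, show Nat.gcd 6 (2 + 1) = 3 by decide] at h2
  change _ * (_ * Nat.card UU) = _ at h2
  omega

instance finUU : Finite UU := Nat.finite_of_card_ne_zero (uu_card.trans_ne (by decide))

theorem uu_cen : center UU = ⊥ := Calc.center_eq_bot_of_simple (by rw [uu_card]; norm_num)

theorem uu_inj : Function.Injective (MulAut.conj : UU →* MulAut UU) := (injective_iff_map_eq_one _).2 fun _ hg =>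
  uu_cen.le (mem_center_iff.2 fun x => (mul_inv_eq_iff_eq_mul.1 (congrArg (fun a : MulAut UU => a x) hg)).symm)

theorem diag3 (m : α ∈ (diagAut : GU 6 F4 2 →* _).range) (o : β ∈ (diagAut : GU 6 F4 2 →* _).range) :
    α ^ 3 ∈ Inn UU ∧ α * β * α⁻¹ * β⁻¹ ∈ Inn UU := by
  obtain ⟨e⟩ := nonempty_outDiag_equiv h4 (n := 6) (by decide)
  let x : (diagAut : GU 6 F4 2 →* _).range.map (QuotientGroup.mk' (Inn UU)) := ⟨α, mem_map_of_mem _ m⟩
  let y : (diagAut : GU 6 F4 2 →* _).range.map (QuotientGroup.mk' (Inn UU)) := ⟨β, mem_map_of_mem _ o⟩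
  have x3 : x ^ 3 = 1 := e.injective (by
    rw [map_pow, map_one]; exact (by decide : ∀ y : Multiplicative (ZMod 3), y ^ 3 = 1) _)
  have xy : x * y * x⁻¹ * y⁻¹ = 1 := e.injective (by simp only [map_mul, map_inv, map_one, mul_comm (e x), mul_inv_cancel_right, mul_inv_cancel])
  exact ⟨(QuotientGroup.eq_one_iff _).1 (congrArg Subtype.val x3), (QuotientGroup.eq_one_iff _).1 (congrArg Subtype.val xy)⟩

theorem ty1_of (e : ↥((diagAut : GU 6 F4 2 →* _).range ⊓ centralizer {β}) ≃* symplecticGroup (Fin 3) (ZMod 2)) : Ty1 β := by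
  have := Fact.mk Nat.prime_three
  obtain ⟨A, hA⟩ : ∃ A, A = (diagAut : GU 6 F4 2 →* _).range ⊓ centralizer {β} := ⟨_, rfl⟩
  rw [← hA] at e
  have p : ∀ B : Subgroup (MulAut UU), (∀ a ∈ A, ∀ b ∈ A, a * b * a⁻¹ * b⁻¹ ∈ B) → A ≤ B := fun B k a m =>
    (commutator_le.2 fun a _ b _ => k a a.2 b b.2 : _root_.commutator A ≤ B.subgroupOf A)
      ((Symp.commutator_eq_top_of_mulEquiv e (Symp.commutator_sp_eq_top (.inl (by simp)))).ge (mem_top (⟨a, m⟩ : A)))
  have i := p (Inn UU) fun a m b o => (diag3 (hA ▸ m).1 (hA ▸ o).1).2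
  have f : ∀ u, MulAut.conj u ∈ A ↔ β u = u := fun u => by
    rw [hA, mem_inf, mem_centralizer_singleton_iff, and_iff_right (inn_le_range_diagAut ⟨u, rfl⟩), ← uu_inj.eq_iff, eq_comm,
      ← mul_inv_eq_iff_eq_mul]
    exact Eq.congr_left (by ext; simp)
  have : Finite A := Finite.of_equiv _ e.symm.toEquiv
  obtain ⟨T, c⟩ := Sylow.exists_subgroup_card_pow_prime 3 (n := 4) (G := A) (by
    rw [Nat.card_congr e.toEquiv, Symp.card_sp]; simp [Finset.prod_range_succ])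
  refine ⟨⟨(T.map A.subtype).comap MulAut.conj, ?_, fun t m => (f t).1 (map_subtype_le T m)⟩, fun B k u m => ?_⟩
  · rw [← card_map_of_injective uu_inj, map_comap_eq_self ((map_subtype_le T).trans i), card_map_of_injective A.subtype_injective, c]; rfl
  · refine (mem_map_iff_mem uu_inj).1 (p (B.map MulAut.conj) (fun a m b o => ?_) ((f u).2 m))
    obtain ⟨a, rfl⟩ := i m
    obtain ⟨b, rfl⟩ := i o
    exact ⟨_, k a b ((f a).1 m) ((f b).1 o), by simp⟩

theorem gal (ρ : F4 ≃+* F4) : ρ = 1 ∨ ∀ a, ρ a = cj4 a := by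
  have k : ∀ a : F4, a = 0 ∨ a = 1 ∨ a = ⟨0, 1⟩ ∨ a = ⟨0, 1⟩ + 1 := by decide
  have w : ρ ⟨0, 1⟩ * ρ ⟨0, 1⟩ = ρ ⟨0, 1⟩ + 1 := by rw [← map_mul, ← map_one ρ, ← map_add]; rfl
  refine ((by decide : ∀ a : F4, a * a = a + 1 → a = ⟨0, 1⟩ ∨ a = cj4 ⟨0, 1⟩) _ w).imp (fun e => RingEquiv.ext fun a => ?_) fun e a => ?_ <;>
    rcases k a with rfl | rfl | rfl | rfl <;> simp only [map_zero, map_one, map_add, e, RingAut.one_apply]

theorem out6 : ∃ P : Subgroup (MulAut UU), (∀ β γ, β ∉ P → γ ∉ P → β * γ ∈ P) ∧ ∀ β ∈ P, β ^ 3 ∈ Inn UU := by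
  obtain ⟨θ, t, -⟩ := exists_autType (n := 6) h4 (by decide) (by decide)
  refine ⟨θ.ker, fun β γ m o => ?_, fun β m => (diag3 (t ▸ m) (t ▸ m)).1⟩
  rw [MonoidHom.mem_ker, map_mul]
  refine RingEquiv.ext fun a => ?_
  rw [RingAut.mul_apply, (gal _).resolve_left m, (gal _).resolve_left o]
  exact star_star a

/-- a transvection -/
noncomputable def tv (u : Fin 6 → F4) (h : stdForm cj4 (Fin 6) u u = 0) : SU 6 F4 2 :=
  (isBar_cj4.suEquiv 6).symm ⟨_, isBar_cj4.isHerm.transv_mem_SUG u 1 h (by decide)⟩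

theorem tv_mem {u : Fin 6 → F4} (h : stdForm cj4 (Fin 6) u u = 0) (n : u ≠ 0) : tv u h ∈ suSet 6 :=
  (mem_suSet _).2 ⟨u, n, h, fun x => by simp [tv]⟩

theorem tv_mat {u : Fin 6 → F4} (h : stdForm cj4 (Fin 6) u u = 0) : (tv u h).1.1 = 1 + vecMulVec u (cj4 ∘ u) :=
  Matrix.toLin'.injective (LinearMap.ext fun x => by
    rw [toLin'_apply, toLin'_apply, tv, IsBar.suEquiv_symm_mulVec, add_mulVec, one_mulVec, vecMulVec_mulVec]
    simp [stdForm_eq_dotProduct])

theorem eq_of_cen {H : Type*} [Group H] (c : Nat.card (center H) = 3) {a b : H} (a2 : a * a = 1) (b2 : b * b = 1)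
    (e : (a : H ⧸ center H) = b) : a = b := by
  have m := QuotientGroup.eq.1 e
  have c : (a⁻¹ * b) ^ 3 = 1 := congrArg Subtype.val (c ▸ pow_card_eq_one' (x := (⟨_, m⟩ : center H)) :)
  have d : a⁻¹ * b * (a⁻¹ * b) = 1 := by
    rw [← mul_assoc, ← mem_center_iff.1 m a⁻¹, ← mul_assoc, ← _root_.mul_inv_rev, a2, inv_one, one_mul, b2]
  rwa [pow_succ, pow_two, d, one_mul, inv_mul_eq_one] at c

theorem su_mul {F : Type*} [Field F] {n q : ℕ} {a b c : SU n F q} (e : a * b = c) : a.1.1 * b.1.1 = c.1.1 := e ▸ rfl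

theorem su_sq {a : SU 6 F4 2} (m : a ∈ suSet 6) : a * a = 1 := by
  obtain ⟨u, -, h, e⟩ := (mem_suSet a).1 m
  refine (isBar_cj4.suEquiv 6).injective (Subtype.ext (LinearEquiv.ext fun x => ?_))
  rw [map_mul, map_one, coe_mul, LinearEquiv.mul_apply, e, e, map_add, map_smul, h, smul_zero, add_zero, add_assoc, ← add_smul, F4.add_self,
    zero_smul, add_zero]
  rfl

theorem diag_X (g : GU 6 F4 2) (x : UU) : diagAut g x ∈ XU ↔ x ∈ XU := by
  have k : ∀ (g : GU 6 F4 2), ∀ x ∈ XU, diagAut g x ∈ XU := by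
    rintro g _ ⟨s, m, rfl⟩
    refine ⟨diagSU g s, ?_, rfl⟩
    rw [Set.mem_ofPred_eq, diagSU_coe, show g.1.1 * s.1.1 * (g.1⁻¹).1 - 1 = g.1.1 * (s.1.1 - 1) * (g.1⁻¹).1 by
      rw [mul_sub, sub_mul, mul_one, Units.mul_inv], rank_mul_eq_left_of_isUnit_det _ _ (isUnits_det_units _),
      rank_mul_eq_right_of_isUnit_det _ _ (isUnits_det_units _)]
    exact m
  exact ⟨fun m => by simpa using k g⁻¹ _ m, k g x⟩

theorem iso1 : stdForm cj4 (Fin 6) 1 1 = 0 := by decide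

theorem iso2 : ∀ i j : Fin 6, i ≠ j → stdForm cj4 (Fin 6) (Pi.single i 1 + Pi.single j 1) (Pi.single i 1 + Pi.single j 1) = 0 := by
  decide +kernel

theorem ty2_field {τ : F4 ≃+* F4} (hτ : ∀ a, τ a = cj4 a) : Ty2 (Unitary.fieldAut τ) (tv 1 iso1 : SU 6 F4 2) := by
  have t : (τ : F4 → F4) = cj4 := funext hτ
  have s0 : (tv 1 iso1).1.1 = of fun i j => if i = j then 0 else 1 := by rw [tv_mat]; decide +kernel
  have m0 := tv_mem iso1 one_ne_zero
  have fx : ∀ s : SU 6 F4 2, s.1.1.map cj4 = s.1.1 → Unitary.fieldAut τ (s : UU) = s := fun s e => by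
    rw [Unitary.fieldAut_mk, show fieldSU τ s = s from Subtype.ext (Subtype.ext (by rw [fieldSU_coe, t, e]))]
  have f0 := fx _ (by rw [s0]; decide +kernel)
  refine ⟨⟨_, m0, rfl⟩, f0, QuotientGroup.mk_surjective.forall.2 fun g e => ?_, ?_, QuotientGroup.mk_surjective.forall.2 fun g k => ?_⟩
  · obtain ⟨a, f⟩ := (mem_center_SU h4 (by decide) (g := (fieldSU τ g)⁻¹ * g)).1 (QuotientGroup.eq.1 e)
    have f : g.1.1 = a • g.1.1.map cj4 := by
      have := su_mul (mul_inv_cancel_left (fieldSU τ g) g)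
      rw [f, Matrix.mul_smul, mul_one, fieldSU_coe, t] at this
      exact this.symm
    have p : ∀ i j, g.1.1 i j = a * a * (cj4 (g.1.1 i j) * g.1.1 i j) := fun i j =>
      (by decide : ∀ a x : F4, x = a * cj4 x → x = a * a * (cj4 x * x)) _ _ (congrFun₂ f i j)
    have u := isBar_cj4.mem_SU_iff.1 g.2
    have r1 : ∀ j, ∑ i, g.1.1 i j = a * a := fun j => by
      rw [Finset.sum_congr rfl fun i _ => p i j, ← Finset.mul_sum,
        show ∑ i, cj4 (g.1.1 i j) * g.1.1 i j = 1 from (congrFun₂ u j j).trans (one_apply_eq j), mul_one]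
    have r2 : ∀ i, ∑ j, g.1.1 i j = a * a := fun i => by
      rw [Finset.sum_congr rfl fun j _ => (p i j).trans (congrArg _ (mul_comm _ _)), ← Finset.mul_sum,
        show ∑ j, g.1.1 i j * cj4 (g.1.1 i j) = 1 from (congrFun₂ (mul_eq_one_comm.1 u :) i i).trans (one_apply_eq i), mul_one]
    refine congrArg QuotientGroup.mk (Subtype.ext (Subtype.ext ?_) : g * tv 1 iso1 = tv 1 iso1 * g)
    rw [← su_mul rfl, ← su_mul rfl, tv_mat, mul_add, add_mul, mul_one, one_mul]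
    ext1 i j
    simp [mul_apply, r1, r2]
  · let w : F4 := ⟨0, 1⟩
    let P : GL (Fin 6) F4 := ⟨!![1, 0, 0, 0, 0, w+1; 1, 1, 0, 0, 0, w; 0, 1, 1, 0, 0, w; 0, 0, 1, 1, 0, w; 0, 0, 0, 1, 1, w; 0, 0, 0, 0, 1, w],
      !![w, w+1, w+1, w+1, w+1, w+1; 0, 0, 1, 1, 1, 1; w, w, w, w+1, w+1, w+1; 0, 0, 0, 0, 1, 1; w, w, w, w, w, w+1; 1, 1, 1, 1, 1, 1],
      by decide +kernel, by decide +kernel⟩
    let M : GL (Fin 6) (ZMod 2) := ⟨!![0, 1, 0, 0, 0, 1; 1, 0, 1, 0, 0, 0; 0, 1, 0, 1, 0, 0; 0, 0, 1, 0, 1, 0; 0, 0, 0, 1, 0, 0; 1, 0, 0, 0, 0, 0],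
      !![0, 0, 0, 0, 0, 1; 0, 0, 1, 0, 1, 0; 0, 1, 0, 0, 0, 1; 0, 0, 0, 0, 1, 0; 0, 1, 0, 1, 0, 1; 1, 0, 1, 0, 1, 0],
      by decide +kernel, by decide +kernel⟩
    have g : IsGr cj4 τ (algebraMap (ZMod 2) F4) (Unitary.fieldAut τ * MulAut.conj (tv 1 iso1 : UU)) P M 1 :=
      ⟨one_ne_zero, by decide +kernel, suToGU (tv 1 iso1), 1, one_ne_zero, by
        rw [diagAut_suToGU, ← mul_inv_eq_iff_eq_mul]
        conv_rhs => rw [← f0]
        ext; simp, by rw [suToGU_coe, s0]; decide +kernel⟩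
    obtain ⟨e⟩ := g.nonempty_cent_equiv isBar_cj4 hτ (by simp only [RingHom.mem_range]; decide) (by decide)
    obtain ⟨e'⟩ := nonempty_projQuot_equiv_isom rfl (nd_frm M)
    obtain ⟨e''⟩ := Symp.nonempty_isom_equiv (l := Fin 3) (B := frm M) (fun v => by rw [toBilin'_apply']; revert v; decide +kernel)
      (nd_frm M) (by simp)
    exact ty1_of ((e.trans e').trans e'')
  have c : ∀ i j (n : i ≠ j), g.1.1 * vecMulVec (Pi.single i 1 + Pi.single j 1) (Pi.single i 1 + Pi.single j 1) =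
      vecMulVec (Pi.single i 1 + Pi.single j 1) (Pi.single i 1 + Pi.single j 1) * g.1.1 := fun i j n => by
    have v : cj4 ∘ (Pi.single i 1 + Pi.single j 1 : Fin 6 → F4) = Pi.single i 1 + Pi.single j 1 := by revert i j; decide +kernel
    have m := tv_mem (iso2 i j n) fun e => by simpa [n] using congrFun e i
    have := eq_of_cen (card_center_SU h4 (by decide)) (a := g * tv _ (iso2 i j n) * g⁻¹) (by rw [conj_mul, su_sq m, mul_one, mul_inv_cancel]) (su_sq m)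
      (mul_inv_eq_iff_eq_mul.2 (k _ ⟨_, m, rfl⟩ (fx _ (by rw [tv_mat, v]; clear v m n; revert i j; decide +kernel))))
    rw [mul_inv_eq_iff_eq_mul] at this
    have := (su_mul this).trans (su_mul rfl).symm
    rwa [tv_mat, v, mul_add, add_mul, mul_one, one_mul, add_right_inj] at this
  have a2 : ∀ x y : F4, x + y = 0 → x = y := by decide
  have row : ∀ k i j, k ≠ i → k ≠ j → g.1.1 k i = g.1.1 k j := fun k i j p q => if n : i = j then n ▸ rfl else a2 _ _ (by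
    simpa [mul_vecMulVec, vecMulVec_mul, vecMulVec_apply, mulVec_add, Pi.single_apply, p, q, n, Ne.symm n] using congrFun₂ (c i j n) k i)
  have col : ∀ k i j, k ≠ i → k ≠ j → g.1.1 i k = g.1.1 j k := fun k i j p q => if n : i = j then n ▸ rfl else a2 _ _ (by
    simpa [mul_vecMulVec, vecMulVec_mul, vecMulVec_apply, add_vecMul, Pi.single_apply, p, q, n, Ne.symm n] using
      (congrFun₂ (c i j n) i k).symm)
  have off : ∀ k l, k ≠ l → g.1.1 k l = g.1.1 0 1 := fun k l n => by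
    obtain ⟨m, p, q⟩ := (by decide : ∀ k : Fin 6, ∃ m, m ≠ k ∧ m ≠ 0) k
    rw [row k l m n p.symm, col m k 0 p q, row 0 m 1 q.symm (by decide)]
  have dg : ∀ k, g.1.1 k k = g.1.1 0 0 := fun k => if n : k = 0 then n ▸ rfl else by
    simpa [mul_vecMulVec, vecMulVec_mul, vecMulVec_apply, mulVec_add, add_vecMul, Pi.single_apply, n, Ne.symm n, add_comm (g.1.1 k 0)] using
      congrFun₂ (c k 0 n) k 0
  have e : g.1.1 = of fun i j => if i = j then g.1.1 0 0 else g.1.1 0 1 := by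
    ext1 i j
    rw [of_apply]
    split_ifs with n
    exacts [n ▸ dg i, off i j n]
  have u := isBar_cj4.mem_SU_iff.1 g.2
  rw [e] at u
  generalize g.1.1 0 0 = p, g.1.1 0 1 = b at e u
  refine ((by decide +kernel : ∀ p b : F4, ((of fun i j : Fin 6 => if i = j then p else b).map cj4)ᵀ * (of fun i j => if i = j then p else b) = 1 →
    (of fun i j : Fin 6 => if i = j then p else b) = p • 1 ∨ (of fun i j : Fin 6 => if i = j then p else b) *
      (of fun i j => if i = j then 0 else 1) = b • 1) p b u).imp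
    (fun f => (QuotientGroup.eq_one_iff _).2 ((mem_center_SU h4 (by decide)).2 ⟨p, e.trans f⟩)) fun f => ?_
  have := (QuotientGroup.eq_one_iff (g * tv 1 iso1)).2 ((mem_center_SU h4 (by decide)).2 ⟨b, by rw [← f, ← e, ← s0]; rfl⟩)
  rw [QuotientGroup.mk_mul, mul_eq_one_iff_eq_inv, ← QuotientGroup.mk_inv, inv_eq_of_mul_eq_one_right (su_sq m0)] at this
  exact this

theorem outer (b2 : β * β = 1) (n : β ∉ Inn UU) : Ty1 β ∨ ∃ c, Ty2 β c := by
  obtain ⟨g, τ, e⟩ := aut_PSU_decomp h4 (by decide) (by decide) β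
  have hτ := (gal τ).resolve_left fun t => n (by
    have := (diag3 (α := β) ⟨g, by rw [e, t, map_one, mul_one]⟩ (one_mem _)).1
    rwa [pow_succ, pow_two, b2, one_mul] at this)
  have hφ : ∀ x, cj4 x = x ↔ x ∈ (algebraMap (ZMod 2) F4).range := by simp only [RingHom.mem_range]; decide
  obtain ⟨P, N, δ, k⟩ := exists_isGr_of_graph isBar_cj4 hτ hφ (by decide) (isGraphAutClassPSU_iff.2 ⟨by decide, g, τ, by
    rw [orderOf_bar isBar_cj4 hτ]; exact even_two, e⟩) (orderOf_eq_prime (by rw [pow_two, b2]) fun f => n (f ▸ one_mem _))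
  by_cases hN : (frm N).IsAlt
  · obtain ⟨e⟩ := k.nonempty_cent_equiv isBar_cj4 hτ hφ (by decide)
    obtain ⟨e'⟩ := nonempty_projQuot_equiv_isom rfl (nd_frm N)
    obtain ⟨e''⟩ := Symp.nonempty_isom_equiv (l := Fin 3) hN (nd_frm N) (by simp)
    exact .inl (ty1_of ((e.trans e').trans e''))
  have s₃ : (frm (1 : GL (Fin 6) (ZMod 2))).IsSymm := ⟨fun u v => by simp [Matrix.toBilin'_apply', dotProduct_comm]⟩
  have a₃ : ¬ (frm (1 : GL (Fin 6) (ZMod 2))).IsAlt := fun h => by simpa [Matrix.toBilin'_apply'] using h (Pi.single 0 1)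
  obtain ⟨c, hc⟩ := Symp.exists_symC rfl s₃.eq (nd_frm _)
  obtain ⟨d, hd⟩ := Symp.exists_symC rfl ((k.isSymm_or_isAlt isBar_cj4.invol hφ).resolve_right hN).eq (nd_frm _)
  obtain ⟨e, he⟩ := hc.exists_isometry hd rfl fun _ => by rw [hc.eq_zero_iff, hd.eq_zero_iff, iff_false_intro a₃, iff_false_intro hN]
  obtain ⟨_, ⟨g, rfl⟩, rfl⟩ := ((isGr_one isBar_cj4 hτ).isConjUnder_iff isBar_cj4 hτ hφ (by decide) k).2 ⟨e, 1, one_ne_zero, by simpa using he⟩
  exact .inr ⟨_, (ty2_field hτ).cj (diag_X g)⟩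

end Cfsg.Lib.F223
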